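import Groth.Agent.GrpSchLib.AffineHopf
import Groth.Agent.GrpSchLib.RankOneBase
import Mathlib.AlgebraicGeometry.Morphisms.FlatMono
import Mathlib.AlgebraicGeometry.Morphisms.Etale
import Mathlib.AlgebraicGeometry.Morphisms.QuasiFinite
import Mathlib.AlgebraicGeometry.AlgClosed.Basic
import Mathlib.Algebra.MonoidAlgebra.NoZeroDivisors
import Mathlib.RingTheory.Unramified.LocalStructure

/-! Tori over a field are connected; étale groups over algebraically closed fields have discrete points. -/

set_option autoImplicit false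
set_option linter.style.haveILetI false

universe u

open CategoryTheory CategoryTheory.Limits AlgebraicGeometry MonoidalCategory CartesianMonoidalCategory
open scoped MonObj

noncomputable section

namespace Groth.Agent.RedEasy38

/-- Pullbacks along equal morphisms. -/
def pullbackEqIso {X Y : Scheme.{u}} {a b : X ⟶ Y} (h : a = b) (D : Over Y) :
    (Over.pullback a).obj D ≅ (Over.pullback b).obj D := by
  subst h; exact Iso.refl _

theorem locallyQuasiFinite_etale {X Y : Scheme.{u}} (f : X ⟶ Y) [Etale f] : LocallyQuasiFinite f := by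
  rw [HasRingHomProperty.iff_appLE (P := @LocallyQuasiFinite)]
  intro U V e
  have h1 := HasRingHomProperty.appLE @FormallyUnramified f inferInstance U V e
  have h2 := HasRingHomProperty.appLE @LocallyOfFiniteType f inferInstance U V e
  algebraize [(f.appLE U.1 V.1 e).hom]
  have : Algebra.QuasiFinite Γ(Y, U) Γ(X, V) := inferInstance
  exact this

theorem connectedSpace_DS_field (L : Type u) [Field L] (r : ℕ) :
    ConnectedSpace ↥(Red.DS (Spec (CommRingCat.of L)) (Fin r → ℤ)).left := by
  obtain ⟨e⟩ := GrpSchLib.AffineHopf.nonempty_DS_iso L (Fin r → ℤ)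
  let i := (Over.forget _).mapIso ((Grp.forget _).mapIso e)
  haveI : IsDomain (MonoidAlgebra L (Multiplicative (Fin r → ℤ))) := NoZeroDivisors.to_isDomain _
  haveI : ConnectedSpace ↥(Spec (CommRingCat.of (MonoidAlgebra L (Multiplicative (Fin r → ℤ))))) :=
    inferInstanceAs (ConnectedSpace (PrimeSpectrum (MonoidAlgebra L (Multiplicative (Fin r → ℤ)))))
  exact (Scheme.homeoOfIso i).connectedSpace_iff.mp ‹_›

/-- A torus over a field is connected. -/
theorem connectedSpace_torus {K : Type u} [Field K] {T : Over (Spec (CommRingCat.of K))} [GrpObj T]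
    (hT : Red.IsTorus T) : ConnectedSpace ↥T.left := by
  obtain ⟨S', f, -, hs, -, hloc⟩ := hT
  obtain ⟨s', -⟩ := hs.surj (IsLocalRing.closedPoint K)
  obtain ⟨U, hU, r, ⟨e⟩⟩ := hloc s'
  let u : (U : Scheme.{u}) := ⟨s', hU⟩
  let L := (U : Scheme.{u}).residueField u
  let j : Spec (CommRingCat.of L) ⟶ (U : Scheme.{u}) := (U : Scheme.{u}).fromSpecResidueField u
  let g := U.ι ≫ f
  let Φ : Red.bc j (Red.bc g T) ≅ Red.bc j (Red.DS (U : Scheme.{u}) (Fin r → ℤ)) :=
    (Over.pullback j).mapIso ((Grp.forget _).mapIso e)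
  let Ψ : Red.bc j (Red.DS (U : Scheme.{u}) (Fin r → ℤ)) ≅ Red.DS (Spec (CommRingCat.of L)) (Fin r → ℤ) :=
    ((Over.pullbackComp j (IsTerminal.from specULiftZIsTerminal (U : Scheme.{u}))).symm.app _) ≪≫
      pullbackEqIso (specULiftZIsTerminal.hom_ext (j ≫ IsTerminal.from specULiftZIsTerminal (U : Scheme.{u}))
        (IsTerminal.from specULiftZIsTerminal (Spec (CommRingCat.of L)))) _
  haveI : ConnectedSpace ↥(Red.bc j (Red.bc g T)).left := by
    haveI := connectedSpace_DS_field L r
    exact (Scheme.homeoOfIso ((Over.forget _).mapIso (Φ ≪≫ Ψ))).symm.connectedSpace_iff.mp ‹_›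
  haveI : Surjective (j ≫ g) := ⟨fun x => ⟨IsLocalRing.closedPoint L, Subsingleton.elim _ _⟩⟩
  let E : Red.bc j (Red.bc g T) ≅ Red.bc (j ≫ g) T := (Over.pullbackComp j g).symm.app T
  let p : (Red.bc j (Red.bc g T)).left ⟶ T.left := E.hom.left ≫ pullback.fst T.hom (j ≫ g)
  haveI : IsIso E.hom.left := inferInstanceAs (IsIso ((Over.forget _).mapIso E).hom)
  haveI : Surjective p := inferInstanceAs (Surjective (E.hom.left ≫ pullback.fst T.hom (j ≫ g)))
  exact p.surjective.connectedSpace p.continuous

variable {K : Type u} [Field K] [IsAlgClosed K] {N : Over (Spec (CommRingCat.of K))} [Etale N.hom]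

omit [IsAlgClosed K] in
theorem discreteTopology_of_etale : DiscreteTopology ↥N.left := by
  haveI := locallyQuasiFinite_etale N.hom
  have h : _root_.IsDiscrete (N.hom ⁻¹' {IsLocalRing.closedPoint K}) := N.hom.isDiscrete_preimage_singleton _
  rw [show N.hom ⁻¹' {IsLocalRing.closedPoint K} = Set.univ from
    Set.eq_univ_of_forall fun x => Subsingleton.elim (N.hom x) _] at h
  exact isDiscrete_univ_iff.mp h

omit [IsAlgClosed K] in
theorem isOpenImmersion_section (m : 𝟙_ (Over (Spec (CommRingCat.of K))) ⟶ N) : IsOpenImmersion m.left := by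
  haveI : Etale (m.left ≫ N.hom) := by
    rw [Over.w m]; exact inferInstanceAs (Etale (𝟙 _))
  haveI : Etale m.left := Etale.of_comp m.left N.hom
  haveI : Mono m.left := by
    haveI : Mono (m.left ≫ N.hom) := by rw [Over.w m]; exact inferInstanceAs (Mono (𝟙 _))
    exact mono_of_mono m.left N.hom
  exact IsOpenImmersion.of_flat_of_mono m.left

/-- A morphism from a connected scheme to an étale scheme over an algebraically closed field is constant. -/
theorem eq_const {X : Over (Spec (CommRingCat.of K))} [ConnectedSpace ↥X.left] (φ : X ⟶ N)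
    (x : 𝟙_ (Over (Spec (CommRingCat.of K))) ⟶ X) : φ = toUnit X ≫ x ≫ φ := by
  haveI := discreteTopology_of_etale (N := N)
  haveI := isOpenImmersion_section (x ≫ φ)
  have hr : Set.range φ.left ⊆ Set.range (x ≫ φ).left := by
    rintro _ ⟨p, rfl⟩
    let q : Spec (CommRingCat.of K) := IsLocalRing.closedPoint K
    exact ⟨q, PreconnectedSpace.constant inferInstance φ.left.continuous (x := x.left q) (y := p)⟩
  let l := IsOpenImmersion.lift (x ≫ φ).left φ.left hr
  have hl : l ≫ (x ≫ φ).left = φ.left := IsOpenImmersion.lift_fac _ _ _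
  have e : l = X.hom := by
    have h1 := congrArg (· ≫ N.hom) hl
    simp only [Category.assoc, Over.w] at h1
    rw [← h1]
    exact (Category.comp_id l).symm
  ext1
  rw [← hl, e]
  rfl

/-- An étale group over an algebraically closed field whose only rational point is the unit is trivial. -/
theorem isTrivialGrp_of_points [GrpObj N] (h : ∀ m : 𝟙_ (Over (Spec (CommRingCat.of K))) ⟶ N, m = 1) :
    Red.IsTrivialGrp N := by
  haveI := discreteTopology_of_etale (N := N)
  haveI := isOpenImmersion_section (N := N) 1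
  haveI : Surjective (1 : 𝟙_ (Over (Spec (CommRingCat.of K))) ⟶ N).left := ⟨fun p => by
    have hcl : p ∈ closedPoints ↥N.left := isClosed_discrete _
    obtain ⟨⟨a, ha⟩, hp⟩ := (pointEquivClosedPoint N.hom).surjective ⟨p, hcl⟩
    refine ⟨IsLocalRing.closedPoint K, ?_⟩
    rw [← h (Over.homMk a ha)]
    exact congrArg Subtype.val hp⟩
  haveI : IsIso (1 : 𝟙_ (Over (Spec (CommRingCat.of K))) ⟶ N).left :=
    (isIso_iff_isOpenImmersion_and_surjective _).mpr ⟨inferInstance, inferInstance⟩
  haveI : IsIso ((1 : 𝟙_ (Over (Spec (CommRingCat.of K))) ⟶ N).left ≫ N.hom) := by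
    rw [Over.w]; exact inferInstanceAs (IsIso (𝟙 _))
  exact IsIso.of_isIso_comp_left (1 : 𝟙_ (Over (Spec (CommRingCat.of K))) ⟶ N).left N.hom

end Groth.Agent.RedEasy38
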